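import Groth.Agent.PicH1Lib.Lift

/-!
# Roots of line bundles lift along square zero thickenings
-/

set_option autoImplicit false
set_option linter.style.haveILetI false
universe u

open CategoryTheory CategoryTheory.Limits AlgebraicGeometry TopologicalSpace Opposite
open CategoryTheory.Abelian
open KFlatLib (pb)

noncomputable section

namespace RootLiftLib

open PicH1Lib

theorem rel_tensorPow {X₀ X' : Scheme.{u}} {f : X₀ ⟶ X'} {L : X₀.Modules} {c : H1 f} (h : Rel f L c) :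
    ∀ m : ℕ, Rel f (CohB1.tensorPow L m) (m • c)
  | 0 => by rw [zero_nsmul]; exact rel_structureModule f
  | m + 1 => by rw [succ_nsmul]; exact (rel_tensorPow h m).tensor h

theorem pow_pull {X Y : Scheme.{u}} (g : X ⟶ Y) {L : Y.Modules} (hL : PicF.IsInvertible L) (m : ℕ) :
    Nonempty (CohB1.tensorPow (pb g L) m ≅ pb g (CohB1.tensorPow L m)) :=
  ⟨(AmpleDevLib.exists_pullPowIso g hL m).choose.symm⟩

variable {X : Scheme.{u}}

theorem isUnit_res {n : ℕ} (hn : IsUnit (n : Γ(X, ⊤))) (U : X.Opens) : IsUnit (n : Γ(X, U)) := by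
  have := hn.map (X.presheaf.map (homOfLE (le_top : U ≤ ⊤)).op).hom
  rwa [map_natCast] at this

/-- Multiplication by a unit integer is bijective on cohomology. -/
theorem bijective_nsmul {n : ℕ} (hn : IsUnit (n : Γ(X, ⊤))) (M : X.Modules) (p : ℕ) :
    Function.Bijective fun x : QCohLib.HU ((QCohLib.toAbF X).obj M) p ⊤ => n • x := by
  haveI : IsIso (n • 𝟙 M) := by
    rw [Scheme.Modules.Hom.isIso_iff_isIso_app]
    intro U
    rw [ConcreteCategory.isIso_iff_bijective]
    obtain ⟨v, hv⟩ := (isUnit_res hn U).exists_left_inv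
    have key : ∀ (j : ℕ) (s : Γ(M, U)), (j • 𝟙 M).app U s = j • s := fun j s => by
      induction j with
      | zero => rw [zero_nsmul, zero_nsmul]; rfl
      | succ j ih => rw [succ_nsmul, succ_nsmul, ← ih]; rfl
    have hl : ∀ s : Γ(M, U), v • (n • s) = s := fun s => by
      rw [← Nat.cast_smul_eq_nsmul Γ(X, U), smul_smul, hv, one_smul]
    refine ⟨fun s t h => ?_, fun s => ⟨v • s, ?_⟩⟩
    · rw [key, key] at h
      rw [← hl s, ← hl t]
      exact congrArg (v • ·) h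
    · rw [key, smul_comm, hl]
  let F := (QCohLib.toAbF X).obj M
  have e : ∀ (j : ℕ) (x : QCohLib.HU F p ⊤),
      x.comp (Ext.mk₀ (j • 𝟙 F : F ⟶ F)) (add_zero p) = j • x := fun j x => by
    induction j with
    | zero => rw [zero_nsmul, zero_nsmul, Ext.mk₀_zero, Ext.comp_zero]
    | succ j ih => rw [succ_nsmul, succ_nsmul, Ext.mk₀_add, Ext.comp_add, ih, Ext.comp_mk₀_id]
  let φ : F ⟶ F := (QCohLib.toAbF X).map (n • 𝟙 M)
  have hφ : φ = n • 𝟙 F := by
    simp only [φ, Functor.map_nsmul, CategoryTheory.Functor.map_id]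
    rfl
  haveI : IsIso φ := inferInstance
  refine ⟨fun x y h => ?_, fun y => ⟨y.comp (Ext.mk₀ (inv φ)) (add_zero p), ?_⟩⟩
  · have h' : x.comp (Ext.mk₀ φ) (add_zero p) = y.comp (Ext.mk₀ φ) (add_zero p) := by
      rw [hφ, e, e]; exact h
    have := congrArg (fun z : QCohLib.HU F p ⊤ => z.comp (Ext.mk₀ (inv φ)) (add_zero p)) h'
    simpa [Ext.comp_assoc_of_third_deg_zero] using this
  · show n • _ = y
    rw [← e n, ← hφ, Ext.comp_assoc_of_third_deg_zero, Ext.mk₀_comp_mk₀, IsIso.inv_hom_id, Ext.comp_mk₀_id]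

/-- **Roots lift along square zero thickenings.** -/
theorem exists_root_lift {Z : Scheme.{u}} (t : Z ⟶ X) [IsClosedImmersion t] (hI : t.ker * t.ker = ⊥) {n : ℕ}
    (hn : IsUnit (n : Γ(X, ⊤))) {L : X.Modules} (hL : PicF.IsInvertible L) {N : Z.Modules} (hN : PicF.IsInvertible N)
    (e : CohB1.tensorPow N n ≅ pb t L) :
    ∃ M : X.Modules, PicF.IsInvertible M ∧ Nonempty (CohB1.tensorPow M n ≅ L) ∧ Nonempty (pb t M ≅ N) := by
  have hw : t.toImage ≫ t.ker.subschemeι = t := t.toImage_imageι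
  haveI : IsIso t.toImage := inferInstance
  let N' := pb (inv t.toImage) N
  have hN' : PicF.IsInvertible N' := AmpleDevLib.isInvertible_pb _ hN
  obtain ⟨c, hc⟩ := exists_rel_of_isInvertible (isHomeomorph_of_sq_zero hI) hN'
  obtain ⟨l, hl⟩ := exists_rel_of_isInvertible (isHomeomorph_id X) hL
  have hw' : inv t.toImage ≫ t = t.ker.subschemeι := (IsIso.inv_comp_eq _).2 hw.symm
  obtain ⟨q⟩ := pow_pull (inv t.toImage) hN n
  have hnc : n • c = H1map t.ker.subschemeι l :=
    ((rel_tensorPow hc n).of_iso _ (q ≪≫ (Scheme.Modules.pullback _).mapIso e ≪≫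
      (Scheme.Modules.pullbackComp _ _).app L ≪≫ (Scheme.Modules.pullbackCongr hw').app L)).unique _ hl.pullback
  obtain ⟨d, hd⟩ := (obs_eq_zero_iff hI c).mp ((bijective_nsmul hn _ 2).1 (by
    show n • obs hI c = n • 0
    rw [← map_nsmul, hnc, nsmul_zero, (obs_eq_zero_iff hI _).mpr ⟨l, rfl⟩]))
  obtain ⟨x, hx⟩ := (H1map_eq_zero_iff hI (n • d - l)).mp (by rw [map_sub, map_nsmul, hd, hnc, sub_self])
  obtain ⟨y, rfl⟩ := (bijective_nsmul hn _ 1).2 x
  let d' := d - epsH1 hI y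
  have hd' : H1map t.ker.subschemeι d' = c := by
    rw [map_sub, hd, (H1map_eq_zero_iff hI _).mpr ⟨y, rfl⟩, sub_zero]
  have hnd' : n • d' = l := by
    rw [nsmul_sub, ← map_nsmul, show epsH1 hI (n • y) = n • d - l from hx, sub_sub_cancel]
  obtain ⟨M, hM⟩ := exists_module_rel (𝟙 X) d'
  obtain ⟨e1⟩ := (hnd' ▸ rel_tensorPow hM n : Rel (𝟙 X) (CohB1.tensorPow M n) l).iso_of_eq hl
  obtain ⟨e2⟩ := (hd' ▸ hM.pullback : Rel t.ker.subschemeι (pb t.ker.subschemeι M) c).iso_of_eq hc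
  exact ⟨M, hM.isInvertible, ⟨e1⟩, ⟨((Scheme.Modules.pullbackCongr hw).app M).symm ≪≫
    ((Scheme.Modules.pullbackComp _ _).app M).symm ≪≫ (Scheme.Modules.pullback t.toImage).mapIso e2 ≪≫
    (Scheme.Modules.pullbackComp _ _).app N ≪≫
    (Scheme.Modules.pullbackCongr (IsIso.hom_inv_id t.toImage)).app N ≪≫ (Scheme.Modules.pullbackId _).app N⟩⟩

end RootLiftLib

end
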